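import Groth.Prelude.Def_Red
import Groth.Agent.L15.CDivNormal
import Groth.Agent.L19.SmoothNormal
import Groth.Agent.L25.ConnIrred
import Mathlib.AlgebraicGeometry.Morphisms.Smooth
import Mathlib.RingTheory.DiscreteValuationRing.TFAE

/-!
# Smooth groups with connected fibres over normal integral schemes
-/

set_option autoImplicit false
universe u

open CategoryTheory CategoryTheory.Limits AlgebraicGeometry TopologicalSpace
open Groth.L15.CDivLib

set_option linter.style.haveILetI false
set_option backward.isDefEq.respectTransparency.types false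

noncomputable section

namespace Groth.L25.Extend

/-- Smooth schemes over normal schemes are normal. -/
theorem isNormalScheme_of_smooth {X S : Scheme.{u}} (f : X ⟶ S) [Smooth f]
    (hS : Pi1.IsNormalScheme S) : Pi1.IsNormalScheme X := by
  intro x
  obtain ⟨U, hU, hfx, -⟩ := exists_isAffineOpen_mem_and_subset (X := S) (x := f x) (U := ⊤) trivial
  obtain ⟨V, hV, hxV, hle⟩ := exists_isAffineOpen_mem_and_subset (X := X) (x := x) (U := f ⁻¹ᵁ U) hfx
  have hn : EGA4.IsNormalRing Γ(S, U) := by
    intro p hp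
    let y : S := hU.fromSpec ⟨p, hp⟩
    have hyU : y ∈ U := hU.range_fromSpec.le ⟨_, rfl⟩
    letI := S.presheaf.algebra_section_stalk ⟨y, hyU⟩
    haveI hloc : IsLocalization.AtPrime (S.presheaf.stalk y) (hU.primeIdealOf ⟨y, hyU⟩).asIdeal :=
      hU.isLocalization_stalk ⟨y, hyU⟩
    have hp' : hU.primeIdealOf ⟨y, hyU⟩ = ⟨p, hp⟩ :=
      hU.fromSpec.isOpenEmbedding.injective (hU.fromSpec_primeIdealOf ⟨y, hyU⟩)
    rw [hp'] at hloc
    haveI : IsLocalization.AtPrime (S.presheaf.stalk y) p := hloc
    let e : Localization.AtPrime p ≃+* S.presheaf.stalk y :=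
      (IsLocalization.algEquiv p.primeCompl (Localization.AtPrime p) (S.presheaf.stalk y)).toRingEquiv
    haveI := (hS y).1
    haveI := (hS y).2
    exact ⟨e.toMulEquiv.isDomain _, IsIntegrallyClosed.of_equiv e.symm⟩
  have hsm : (f.appLE U V hle).hom.Smooth := HasRingHomProperty.appLE (P := @Smooth) f ‹Smooth f› ⟨U, hU⟩ ⟨V, hV⟩ hle
  letI := (f.appLE U V hle).hom.toAlgebra
  haveI : Algebra.Smooth Γ(S, U) Γ(X, V) := hsm
  have hB := Groth.L19.SmoothNormal.isNormalRing_of_smooth Γ(S, U) Γ(X, V) hn
  letI := X.presheaf.algebra_section_stalk ⟨x, hxV⟩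
  haveI : IsLocalization.AtPrime (X.presheaf.stalk x) (hV.primeIdealOf ⟨x, hxV⟩).asIdeal :=
    hV.isLocalization_stalk ⟨x, hxV⟩
  let e : Localization.AtPrime (hV.primeIdealOf ⟨x, hxV⟩).asIdeal ≃+* X.presheaf.stalk x :=
    (IsLocalization.algEquiv (hV.primeIdealOf ⟨x, hxV⟩).asIdeal.primeCompl _ (X.presheaf.stalk x)).toRingEquiv
  obtain ⟨h1, h2⟩ := hB (hV.primeIdealOf ⟨x, hxV⟩).asIdeal
  haveI := h1
  haveI := h2
  exact ⟨e.symm.toMulEquiv.isDomain _, IsIntegrallyClosed.of_equiv e⟩

theorem isReduced_of_normal {X : Scheme.{u}} (hX : Pi1.IsNormalScheme X) : IsReduced X := by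
  haveI : ∀ x : X, _root_.IsReduced (X.presheaf.stalk x) := fun x => by
    haveI := (hX x).1
    infer_instance
  exact isReduced_of_isReduced_stalk X

/-- A point of codimension one specialises from itself and the generic point only. -/
theorem eq_or_eq_genericPoint {X : Scheme.{u}} [IsIntegral X] [IsLocallyNoetherian X] {x y : X}
    (hx : Order.coheight x = 1) (h : y ⤳ x) : y = x ∨ y = genericPoint X := by
  obtain ⟨q, rfl⟩ : ∃ q, X.fromSpecStalk x q = y := Scheme.range_fromSpecStalk.ge h
  haveI : Ring.KrullDimLE 1 (X.presheaf.stalk x) := krullDimLE_of_coheight_le hx.le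
  rcases eq_or_ne q.asIdeal ⊥ with h0 | h0
  · right
    obtain ⟨p, hp⟩ : ∃ p, X.fromSpecStalk x p = genericPoint X :=
      Scheme.range_fromSpecStalk.ge ((genericPoint_spec X).specializes trivial)
    have h2 := ((PrimeSpectrum.le_iff_specializes q p).1
      (show q.asIdeal ≤ p.asIdeal from h0 ▸ bot_le)).map (X.fromSpecStalk x).continuous
    rw [hp] at h2
    exact (h2.antisymm ((genericPoint_spec X).specializes trivial)).eq
  · left
    rw [show q = IsLocalRing.closedPoint _ from PrimeSpectrum.ext (IsLocalRing.eq_maximalIdeal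
      (Ring.krullDimLE_one_iff_of_noZeroDivisors.1 inferInstance _ h0 q.2)),
      Scheme.fromSpecStalk_closedPoint]

variable {S : Scheme.{u}} [IsIntegral S] [IsLocallyNoetherian S] (H : Over S) [GrpObj H] [Smooth H.hom]
  (hconn : ∀ s : S, ConnectedSpace ↥(Limits.pullback H.hom (S.fromSpecResidueField s)))
include hconn

/-- Every fibre has a generic point. -/
theorem exists_fibre_generic (s : S) :
    ∃ ξ : H.left, H.hom ξ = s ∧ ∀ x : H.left, H.hom x = s → ξ ⤳ x := by
  let Hs := Red.bc (S.fromSpecResidueField s) H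
  haveI : ConnectedSpace (Red.bc (S.fromSpecResidueField s) H).left := hconn s
  haveI : IrreducibleSpace Hs.left :=
    @Groth.L25.ConnIrred.irreducibleSpace (S.residueField s) _ (Red.bc (S.fromSpecResidueField s) H) (Red.grpObj_bc _ H) (hconn s)
  let q := pullback.fst H.hom (S.fromSpecResidueField s)
  have hq : Set.range q = H.hom ⁻¹' {s} := by
    rw [Scheme.Pullback.range_fst, Scheme.range_fromSpecResidueField]
  refine ⟨q (genericPoint Hs.left), hq.le ⟨_, rfl⟩, fun x hx => ?_⟩
  obtain ⟨y, rfl⟩ := hq.ge hx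
  exact ((genericPoint_spec Hs.left).specializes trivial).map q.continuous

theorem irreducibleSpace_total : IrreducibleSpace H.left := by
  obtain ⟨ξ, hξ, hξgen⟩ := exists_fibre_generic H hconn (genericPoint S)
  have hall : ∀ x : H.left, ξ ⤳ x := fun x => by
    obtain ⟨y, hyx, hy⟩ := Flat.generalizingMap H.hom ((genericPoint_spec S).specializes (Set.mem_univ (H.hom x)))
    exact (hξgen y hy).trans hyx
  haveI : Nonempty H.left := ⟨ξ⟩
  have : IsGenericPoint ξ (Set.univ : Set H.left) := by
    rw [isGenericPoint_iff_specializes]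
    exact fun x => ⟨fun _ => trivial, fun _ => hall x⟩
  exact (irreducibleSpace_def _).2 this.isIrreducible

theorem isIntegral_total (hS : Pi1.IsNormalScheme S) : IsIntegral H.left := by
  haveI := irreducibleSpace_total H hconn
  haveI := isReduced_of_normal (isNormalScheme_of_smooth H.hom hS)
  exact isIntegral_of_irreducibleSpace_of_isReduced H.left

theorem hom_genericPoint [IsIntegral H.left] : H.hom (genericPoint H.left) = genericPoint S := by
  obtain ⟨ξ, hξ, -⟩ := exists_fibre_generic H hconn (genericPoint S)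
  refine (((genericPoint_spec H.left).specializes (Set.mem_univ ξ)).map H.hom.continuous |>.antisymm ?_).eq.trans hξ
  rw [hξ]
  exact (genericPoint_spec S).specializes (Set.mem_univ _)

variable [IsIntegral H.left] [IsLocallyNoetherian H.left]

/-- A vertical point of codimension one is the generic point of its fibre, and lies over a point
of codimension one. -/
theorem vertical (hS : Pi1.IsNormalScheme S) {x : H.left} (hx : Order.coheight x = 1)
    (hxs : H.hom x ≠ genericPoint S) :
    (∀ y : H.left, H.hom y = H.hom x → x ⤳ y) ∧ IsDiscreteValuationRing (S.presheaf.stalk (H.hom x)) ∧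
      ∀ s' : S, s' ⤳ H.hom x → s' = H.hom x ∨ s' = genericPoint S := by
  obtain ⟨ξ, hξ, hgen⟩ := exists_fibre_generic H hconn (H.hom x)
  have hne : ξ ≠ genericPoint H.left := by
    rintro rfl
    exact hxs (hξ.symm.trans (hom_genericPoint H hconn))
  have hxξ : ξ = x := (eq_or_eq_genericPoint hx (hgen x rfl)).resolve_right hne
  have hpts : ∀ s' : S, s' ⤳ H.hom x → s' = H.hom x ∨ s' = genericPoint S := by
    intro s' hs'
    obtain ⟨y, hy, rfl⟩ := Flat.generalizingMap H.hom hs'
    rcases eq_or_eq_genericPoint hx hy with rfl | rfl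
    · exact Or.inl rfl
    · exact Or.inr (hom_genericPoint H hconn)
  refine ⟨fun y hy => hxξ ▸ hgen y hy, ?_, hpts⟩
  let O := S.presheaf.stalk (H.hom x)
  haveI := (hS (H.hom x)).1
  haveI := (hS (H.hom x)).2
  have hprime : ∀ P : Ideal O, P ≠ ⊥ → P.IsPrime → P = IsLocalRing.maximalIdeal O := by
    intro P hP hPp
    have hinj := (S.fromSpecStalk (H.hom x)).isEmbedding.injective
    rcases hpts (S.fromSpecStalk (H.hom x) ⟨P, hPp⟩) (Scheme.range_fromSpecStalk.le (Set.mem_range_self (⟨P, hPp⟩ : PrimeSpectrum O))) with e | e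
    · exact congrArg PrimeSpectrum.asIdeal (hinj (e.trans (Scheme.fromSpecStalk_closedPoint).symm))
    · exfalso
      obtain ⟨b, hb⟩ : ∃ b : PrimeSpectrum O, b.asIdeal = ⊥ := ⟨⟨⊥, Ideal.isPrime_bot⟩, rfl⟩
      have h1 : S.fromSpecStalk (H.hom x) b ⤳ S.fromSpecStalk (H.hom x) ⟨P, hPp⟩ :=
        ((PrimeSpectrum.le_iff_specializes b ⟨P, hPp⟩).1 (show b.asIdeal ≤ P from hb ▸ bot_le)).map
          (S.fromSpecStalk (H.hom x)).continuous
      rw [e] at h1
      have h2 := (h1.antisymm ((genericPoint_spec S).specializes trivial)).eq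
      exact hP ((congrArg PrimeSpectrum.asIdeal (hinj (h2.trans e.symm))).symm.trans hb)
  haveI : IsPrincipalIdealRing O :=
    (show (IsIntegrallyClosed O ∧ ∀ P : Ideal O, P ≠ ⊥ → P.IsPrime → P = IsLocalRing.maximalIdeal O) ↔
        IsPrincipalIdealRing O from (tfae_of_isNoetherianRing_of_isLocalRing_of_isDomain O).out 3 0).1
      ⟨inferInstance, hprime⟩
  refine { not_a_field' := fun hbot => hxs ?_ }
  obtain ⟨p, hp⟩ : ∃ p, S.fromSpecStalk (H.hom x) p = genericPoint S :=
    Scheme.range_fromSpecStalk.ge ((genericPoint_spec S).specializes trivial)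
  have hpc : p = IsLocalRing.closedPoint O := PrimeSpectrum.ext
    ((le_bot_iff.1 (hbot ▸ IsLocalRing.le_maximalIdeal p.isPrime.ne_top : p.asIdeal ≤ ⊥)).trans hbot.symm)
  rw [← hp, hpc, Scheme.fromSpecStalk_closedPoint]

end Groth.L25.Extend
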