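import Groth.Agent.L25.Bridge.MultType
import Groth.Agent.L25.Bridge.Lift
import Groth.Agent.L25.MultTypeBC
import Groth.Agent.L25.Central
import Groth.Agent.L25.Locus.Normalizer
import Groth.Agent.L25.TrivLocus
import Groth.Agent.S2973

/-!
# Groups of multiplicative type and of finite type are split etale locally
-/

set_option autoImplicit false
universe u

open CategoryTheory CategoryTheory.Limits MonoidalCategory CartesianMonoidalCategory AlgebraicGeometry
open scoped TensorProduct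

set_option linter.style.haveILetI false
set_option backward.isDefEq.respectTransparency.types false

noncomputable section

namespace Groth.L25.Extend

/-- An etale chart splitting a group of multiplicative type and of finite type around each point. -/
theorem exists_etale_split {S : Scheme.{u}} {H : Over S} [GrpObj H] (hH : SGA3x.IsMultTypeFT H) :
    TwC.Locally S TwC.Topology.etale (fun S' f => ∃ (M : Type) (_ : AddCommGroup M),
      AddGroup.FG M ∧ Nonempty (Grp.mk (Red.bc f H) ≅ Grp.mk (Red.DS S' M))) := by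
  intro s
  obtain ⟨V, hV, hsV, -⟩ := exists_isAffineOpen_mem_and_subset (X := S) (x := s) (U := ⊤) trivial
  let j := hV.fromSpec
  let H₁ := Red.bc j H
  have hH₁ : SGA3x.IsMultTypeFT H₁ := MultTypeBC.isMultTypeFT_bc hH j
  haveI : IsAffineHom H₁.hom := Central.isAffineHom_of_multTypeFT hH₁
  haveI : IsAffine H₁.left := isAffine_of_isAffineHom H₁.hom
  haveI := Locus.lfp_of_multTypeFT hH₁
  obtain ⟨A, _, _, ⟨e₀⟩⟩ := Bridge.exists_hopf H₁
  haveI : Algebra.FiniteType Γ(S, V) A := by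
    let ei : Scheme.asOver (Spec (CommRingCat.of A)) (Spec (CommRingCat.of Γ(S, V))) ≅ H₁ :=
      (Grp.forget _).mapIso e₀.symm
    haveI : IsIso ei.hom.left := (Over.forget _).map_isIso ei.hom
    have h0 : LocallyOfFiniteType (ei.hom.left ≫ H₁.hom) := inferInstance
    have h : LocallyOfFiniteType (Spec.map (CommRingCat.ofHom (algebraMap Γ(S, V) A))) := by
      have hw : ei.hom.left ≫ H₁.hom = Spec.map (CommRingCat.ofHom (algebraMap Γ(S, V) A)) :=
        Over.w ei.hom
      rw [← hw]; exact h0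
    exact RingHom.finiteType_algebraMap.1 ((HasRingHomProperty.Spec_iff (P := @LocallyOfFiniteType)).1 h)
  have hA : SGA3b.IsMultType Γ(S, V) A := Bridge.isMultType_of_locally A
    (Bridge.locally_of_iso e₀ (by
      obtain ⟨S', f, hflat, hsurj, hqc, hloc⟩ := hH₁
      exact ⟨S', f, hflat, hsurj, hqc, fun z => by
        obtain ⟨U, hU, M, inst, -, he⟩ := hloc z
        exact ⟨U, hU, M, inst, he⟩⟩))
  obtain ⟨G, hspan, hq⟩ := Groth.Agent.S2973.result _ A inferInstance hA
  obtain ⟨q, hq'⟩ := hV.range_fromSpec.ge hsV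
  obtain ⟨g, hg, hgq⟩ : ∃ g ∈ G, g ∉ q.asIdeal := by
    by_contra hne
    push Not at hne
    exact q.isPrime.ne_top (top_le_iff.1 (hspan ▸ Ideal.span_le.2 hne))
  obtain ⟨R', _, _, het, hff, N, _, ⟨d⟩⟩ := hq g hg
  haveI := het
  haveI := hff
  let R₁ := Localization.Away g
  let A₁ := R₁ ⊗[Γ(S, V)] A
  let θ₁ : Spec (CommRingCat.of R₁) ⟶ Spec (CommRingCat.of Γ(S, V)) :=
    Spec.map (CommRingCat.ofHom (algebraMap Γ(S, V) R₁))
  let θ₂ : Spec (CommRingCat.of R') ⟶ Spec (CommRingCat.of R₁) :=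
    Spec.map (CommRingCat.ofHom (algebraMap R₁ R'))
  haveI : IsOpenImmersion θ₁ := IsOpenImmersion.of_isLocalization g
  haveI : Etale θ₂ := (HasRingHomProperty.Spec_iff (P := @Etale)).2 (RingHom.etale_algebraMap.mpr het)
  haveI : Monoid.FG N := by
    haveI : Algebra.FiniteType R₁ A₁ := inferInstance
    rcases subsingleton_or_nontrivial R' with hR | hR
    · obtain ⟨p, hp⟩ : ∃ p : PrimeSpectrum R', True := by
        obtain ⟨q₁, hq₁⟩ : ∃ q₁ : PrimeSpectrum R₁, PrimeSpectrum.comap (algebraMap Γ(S, V) R₁) q₁ = q := by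
          exact (Set.ext_iff.1 (PrimeSpectrum.localization_away_comap_range R₁ g) q).2 hgq
        obtain ⟨p, hp⟩ := PrimeSpectrum.comap_surjective_of_faithfullyFlat (A := R₁) (B := R') q₁
        exact ⟨p, trivial⟩
      exact (p.isPrime.ne_top (Subsingleton.elim _ _)).elim
    · haveI : Algebra.FiniteType R' (MonoidAlgebra R' N) :=
        Algebra.FiniteType.equiv (inferInstance : Algebra.FiniteType R' (R' ⊗[R₁] A₁)) d.toAlgEquiv
      exact MonoidAlgebra.finiteType_iff_fg.1 ‹_›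
  obtain ⟨M, _, hM, ⟨eM⟩⟩ := Bridge.exists_small N
  let d' : R' ⊗[R₁] A₁ ≃ₐc[R'] MonoidAlgebra R' (Multiplicative M) :=
    d.trans (MonoidAlgebra.domCongrBialgEquiv R' R' eM.symm)
  let eT : Grp.mk (Red.bc θ₁ H₁) ≅ Grp.mk (Scheme.asOver (Spec (CommRingCat.of A₁)) (Spec (CommRingCat.of R₁))) :=
    (Over.pullback θ₁).mapGrp.mapIso e₀ ≪≫ Bridge.bcIso' A rfl
  let e₂ : Grp.mk (Red.bc θ₂ (Red.bc θ₁ H₁)) ≅ Grp.mk (Red.DS (Spec (CommRingCat.of R')) M) :=
    (Over.pullback θ₂).mapGrp.mapIso eT ≪≫ Bridge.splitIso (A := A₁) rfl d'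
  refine ⟨Spec (CommRingCat.of R'), θ₂ ≫ θ₁ ≫ j, inferInstance, ?_, M, inferInstance, hM, ⟨?_⟩⟩
  · obtain ⟨q₁, hq₁⟩ : ∃ q₁ : PrimeSpectrum R₁, PrimeSpectrum.comap (algebraMap Γ(S, V) R₁) q₁ = q := by
      exact (Set.ext_iff.1 (PrimeSpectrum.localization_away_comap_range R₁ g) q).2 hgq
    obtain ⟨p, hp⟩ := PrimeSpectrum.comap_surjective_of_faithfullyFlat (A := R₁) (B := R') q₁
    refine ⟨p, ?_⟩
    show j (θ₁ (θ₂ p)) = s
    rw [show θ₂ p = q₁ from hp, show θ₁ q₁ = q from hq₁]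
    exact hq'
  · exact (Grp.mkIso' (ActBC.bcCompIso θ₂ (θ₁ ≫ j) H rfl)).symm ≪≫
      (Over.pullback θ₂).mapGrp.mapIso (Grp.mkIso' (ActBC.bcCompIso θ₁ j H rfl)).symm ≪≫ e₂

end Groth.L25.Extend
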