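import Groth.Agent.L25.Extend.Split
import Groth.Agent.L25.Extend.EtaleSplit
import Groth.Agent.L25.Descent.EffEpi
import Groth.Agent.L25.Bridge.TorsionLift
import Groth.Agent.L07.RatSection
import Mathlib.AlgebraicGeometry.Geometrically.Irreducible
import Mathlib.AlgebraicGeometry.Morphisms.UniversallyOpen

/-!
# Homomorphisms into groups of multiplicative type extend from the generic fibre of a normal base
-/

set_option autoImplicit false
universe u

open CategoryTheory CategoryTheory.Limits MonoidalCategory CartesianMonoidalCategory AlgebraicGeometry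
open TopologicalSpace
open scoped MonObj

set_option linter.style.haveILetI false
set_option backward.isDefEq.respectTransparency.types false

noncomputable section

namespace Groth.L25.Extend

theorem bcCompIso_inv_left_fst {S S' S'' : Scheme.{u}} (f : S'' ⟶ S') (g : S' ⟶ S) {d : S'' ⟶ S}
    (X : Over S) (h : f ≫ g = d) :
    (ActBC.bcCompIso f g X h).inv.left ≫ pullback.fst (Red.bc g X).hom f ≫ pullback.fst X.hom g =
      pullback.fst X.hom d := by
  rw [← ActBC.bcCompIso_hom_left_fst f g X h, ← Category.assoc, ← Over.comp_left, Iso.inv_hom_id]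
  exact Category.id_comp _

theorem bcCompIso_inv_left_snd {S S' S'' : Scheme.{u}} (f : S'' ⟶ S') (g : S' ⟶ S) {d : S'' ⟶ S}
    (X : Over S) (h : f ≫ g = d) :
    (ActBC.bcCompIso f g X h).inv.left ≫ pullback.snd (Red.bc g X).hom f = pullback.snd X.hom d :=
  Over.w (ActBC.bcCompIso f g X h).inv

theorem isNormalScheme_field (K : Type u) [Field K] : Pi1.IsNormalScheme (Spec (CommRingCat.of K)) := by
  intro x
  haveI : IsDomain ↑(CommRingCat.of K) := inferInstanceAs (IsDomain K)
  have hx : x = genericPoint (Spec (CommRingCat.of K)) := Subsingleton.elim (α := PrimeSpectrum K) _ _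
  subst hx
  letI : Field ((Spec (CommRingCat.of K)).presheaf.stalk (genericPoint (Spec (CommRingCat.of K)))) :=
    inferInstanceAs (Field (Spec (CommRingCat.of K)).functionField)
  exact ⟨inferInstance, inferInstance⟩

theorem exists_residue_lift {S S' : Scheme.{u}} (f : S' ⟶ S) (t : S') {p : S} (h : f t = p) :
    ∃ c : Spec (S'.residueField t) ⟶ Spec (S.residueField p),
      c ≫ S.fromSpecResidueField p = S'.fromSpecResidueField t ≫ f := by
  subst h
  exact ⟨Spec.map (f.residueFieldMap t), f.SpecMap_residueFieldMap_fromSpecResidueField t⟩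

variable {S : Scheme.{u}} [IsIntegral S] [IsLocallyNoetherian S] (H T : Over S) [GrpObj H] [GrpObj T]

/-- Local extension data: an integral étale neighbourhood and an extension there. -/
theorem exists_local_extension [Smooth H.hom]
    (hconn : ∀ s : S, ConnectedSpace ↥(Limits.pullback H.hom (S.fromSpecResidueField s)))
    (hS : Pi1.IsNormalScheme S) (hT : SGA3x.IsMultTypeFT T)
    (uη : Hη H ⟶ Red.bc (S.fromSpecResidueField (genericPoint S)) T) [IsMonHom uη] (s : S) :
    ∃ (S' : Scheme.{u}) (_ : IsIntegral S') (f : S' ⟶ S) (_ : Etale f) (m : pullback H.hom f ⟶ T.left)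
      (c : Spec (S'.residueField (genericPoint S')) ⟶ Spec (S.residueField (genericPoint S)))
      (hc : c ≫ S.fromSpecResidueField (genericPoint S) = S'.fromSpecResidueField (genericPoint S') ≫ f),
      s ∈ Set.range f ∧ m ≫ T.hom = pullback.fst H.hom f ≫ H.hom ∧
      ∀ ⦃Z : Scheme.{u}⦄ (a : Z ⟶ pullback H.hom f) (w : Z ⟶ Spec (S'.residueField (genericPoint S')))
        (hw : a ≫ pullback.snd H.hom f = w ≫ S'.fromSpecResidueField (genericPoint S')),
        a ≫ m = pullback.lift (a ≫ pullback.fst H.hom f) (w ≫ c)
          (by rw [Category.assoc, Category.assoc, pullback.condition, hc, reassoc_of% hw]) ≫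
          uη.left ≫ pullback.fst T.hom (S.fromSpecResidueField (genericPoint S)) := by
  obtain ⟨T₀, f₀, hf₀, ⟨t, ht⟩, M, _, -, ⟨e⟩⟩ := exists_etale_split hT s
  haveI : IsLocallyNoetherian T₀ := LocallyOfFiniteType.isLocallyNoetherian f₀
  haveI := (isNormalScheme_of_smooth f₀ hS t).1
  obtain ⟨V, htV, -, hVint⟩ := Groth.L07.RatSection.exists_integral_nhd t
  let f : V.toScheme ⟶ S := V.ι ≫ f₀
  haveI : Etale f := inferInstance
  haveI : IsLocallyNoetherian V.toScheme := LocallyOfFiniteType.isLocallyNoetherian f
  have hV : Pi1.IsNormalScheme V.toScheme := isNormalScheme_of_smooth f hS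
  haveI : GeometricallyIrreducible H.hom := by
    refine (GeometricallyIrreducible.iff_geometricallyIrreducible_fiber H.hom).2 fun p => ?_
    exact @Groth.L25.Component.geometricallyIrreducible (S.residueField p) _ (Red.bc (S.fromSpecResidueField p) H)
      (Red.grpObj_bc _ H) (@Groth.L25.ConnIrred.irreducibleSpace (S.residueField p) _ (Red.bc (S.fromSpecResidueField p) H)
        (Red.grpObj_bc _ H) (hconn p))
  let H' := Red.bc f H
  haveI : Smooth H'.hom := MorphismProperty.pullback_snd H.hom f ‹Smooth H.hom›
  have hconn' : ∀ p : V.toScheme, ConnectedSpace ↥(Limits.pullback H'.hom (V.toScheme.fromSpecResidueField p)) := by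
    intro p
    haveI : IrreducibleSpace ↥((pullback.snd H.hom f).fiber p) := inferInstance
    exact inferInstanceAs (ConnectedSpace ↥((pullback.snd H.hom f).fiber p))
  have hη : f (genericPoint V.toScheme) = genericPoint S := by
    obtain ⟨y, hy, hyη⟩ := Flat.generalizingMap f
      ((genericPoint_spec S).specializes (Set.mem_univ (f (genericPoint V.toScheme))))
    rwa [(hy.antisymm ((genericPoint_spec V.toScheme).specializes (Set.mem_univ y))).eq] at hyη
  let q := S.fromSpecResidueField (genericPoint S)
  let q' := V.toScheme.fromSpecResidueField (genericPoint V.toScheme)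
  obtain ⟨c, hc⟩ := exists_residue_lift f _ hη
  let T' := Red.bc f T
  let A := (ActBC.bcCompIso q' f H hc.symm).hom ≫ (ActBC.bcCompIso c q H rfl).inv
  let u' : Red.bc q' H' ⟶ Red.bc q' T' :=
    A ≫ (Over.pullback c).map uη ≫ (ActBC.bcCompIso c q T rfl).hom ≫ (ActBC.bcCompIso q' f T hc.symm).inv
  haveI : IsMonHom u' := by
    haveI : IsMonHom ((Over.pullback c).map uη) :=
      ((Over.pullback c).mapGrp.map (Grp.homMk'' (A := Grp.mk (Hη H)) (B := Grp.mk (Red.bc q T)) uη
        (IsMonHom.one_hom uη) (IsMonHom.mul_hom uη))).hom.isMonHom_hom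
    infer_instance
  obtain ⟨u, hu⟩ := exists_extension_split (H := H') (T := T') hconn' hV (TrivLocus.restrictIso f₀ V.ι e rfl) u'
  refine ⟨V.toScheme, hVint, f, inferInstance, u.left ≫ pullback.fst T.hom f, c, hc, ⟨⟨t, htV⟩, ht⟩, ?_, ?_⟩
  · rw [Category.assoc, pullback.condition]
    exact ((Category.assoc _ _ _).symm.trans (congrArg (· ≫ f) (Over.w u))).trans pullback.condition.symm
  · intro Z a w hw
    have hA1 : A.left ≫ pullback.fst (Hη H).hom c ≫ pullback.fst H.hom q =
        pullback.fst H'.hom q' ≫ pullback.fst H.hom f := by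
      simp only [A, Over.comp_left, Category.assoc]
      rw [bcCompIso_inv_left_fst c q H rfl]
      exact ActBC.bcCompIso_hom_left_fst q' f H hc.symm
    have hA2 : (A.left ≫ pullback.fst (Hη H).hom c) ≫ pullback.snd H.hom q = pullback.snd H'.hom q' ≫ c := by
      rw [Category.assoc, show pullback.snd H.hom q = (Hη H).hom from rfl, pullback.condition, ← Category.assoc]
      exact congrArg (· ≫ c) (Over.w A)
    have hu' : u'.left ≫ pullback.fst T'.hom q' ≫ pullback.fst T.hom f =
        (A.left ≫ pullback.fst (Hη H).hom c) ≫ uη.left ≫ pullback.fst T.hom q := by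
      simp only [u', Over.comp_left, Category.assoc]
      rw [bcCompIso_inv_left_fst q' f T hc.symm, ActBC.bcCompIso_hom_left_fst c q T rfl,
        ActBC.pullback_map_left_fst_assoc c uη]
    let a' : Z ⟶ (Red.bc q' H').left := pullback.lift a w hw
    have e1 : a' ≫ ((Over.pullback q').map u).left ≫ pullback.fst T'.hom q' = a ≫ u.left := by
      rw [ActBC.pullback_map_left_fst q' u, ← Category.assoc, pullback.lift_fst]
    rw [← Category.assoc a, ← e1, hu]
    simp only [Category.assoc]
    rw [hu']
    simp only [← Category.assoc]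
    congr 2
    apply pullback.hom_ext
    · rw [pullback.lift_fst]
      simp only [Category.assoc]
      rw [hA1, ← Category.assoc, pullback.lift_fst]
    · rw [pullback.lift_snd]
      simp only [Category.assoc] at hA2 ⊢
      rw [hA2, ← Category.assoc, pullback.lift_snd]

/-- Homomorphisms into groups of multiplicative type extend from the generic fibre. -/
theorem exists_extension [Smooth H.hom]
    (hconn : ∀ s : S, ConnectedSpace ↥(Limits.pullback H.hom (S.fromSpecResidueField s)))
    (hS : Pi1.IsNormalScheme S) (hT : SGA3x.IsMultTypeFT T)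
    (uη : Hη H ⟶ Red.bc (S.fromSpecResidueField (genericPoint S)) T) [IsMonHom uη] :
    ∃ u : H ⟶ T, IsMonHom u ∧ (Over.pullback (S.fromSpecResidueField (genericPoint S))).map u = uη := by
  haveI : IsAffineHom T.hom := Central.isAffineHom_of_multTypeFT hT
  choose U hU f hf m c hc hs hm hag using exists_local_extension H T hconn hS hT uη
  let q := S.fromSpecResidueField (genericPoint S)
  let P : S → Scheme.{u} := fun s => pullback H.hom (f s)
  let r : ∐ P ⟶ H.left := Sigma.desc fun s => pullback.fst H.hom (f s)
  haveI : ∀ s, Etale (pullback.fst H.hom (f s)) := fun s => MorphismProperty.pullback_fst _ _ (hf s)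
  haveI : Flat r := IsZariskiLocalAtSource.sigmaDesc fun s => by infer_instance
  haveI : LocallyOfFinitePresentation r := IsZariskiLocalAtSource.sigmaDesc fun s => by infer_instance
  haveI : Surjective r := ⟨fun x => by
    obtain ⟨t, ht⟩ := hs (H.hom x)
    obtain ⟨z, hz, -⟩ := Scheme.Pullback.exists_preimage_pullback (f := H.hom) (g := f (H.hom x)) x t ht.symm
    refine ⟨Sigma.ι P (H.hom x) z, ?_⟩
    rw [← Scheme.Hom.comp_apply, Sigma.ι_desc]
    exact hz⟩
  have hcov : ∀ V : H.left.Opens, IsAffineOpen V →
      ∃ W : (∐ P).Opens, IsCompact (W : Set ↑(∐ P)) ∧ r '' (W : Set ↑(∐ P)) = (V : Set H.left) := by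
    intro V hV
    obtain ⟨W, h1, h2⟩ := r.isOpenMap.exists_opens_image_eq_of_prespectralSpace r.continuous
      (U := (V : Set H.left)) (by rw [r.surjective.range_eq]; exact Set.subset_univ _) V.2 hV.isCompact
    exact ⟨W, h1, h2⟩
  haveI := Descent.effectiveEpi_of_cover r hcov
  let m' : ∐ P ⟶ T.left := Sigma.desc m
  have hH := isNormalScheme_of_smooth H.hom hS
  -- the local extensions agree
  have key : ∀ i j, pullback.fst (pullback.fst H.hom (f i)) (pullback.fst H.hom (f j)) ≫ m i =
      pullback.snd (pullback.fst H.hom (f i)) (pullback.fst H.hom (f j)) ≫ m j := by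
    intro i j
    haveI := hU i
    haveI := hU j
    let W := pullback (pullback.fst H.hom (f i)) (pullback.fst H.hom (f j))
    let a : W ⟶ P i := pullback.fst _ _
    let b : W ⟶ P j := pullback.snd _ _
    haveI : Etale (a ≫ pullback.fst H.hom (f i)) := inferInstance
    haveI : IsReduced W := isReduced_of_normal (isNormalScheme_of_smooth (a ≫ pullback.fst H.hom (f i)) hH)
    haveI : Smooth (pullback.snd H.hom (f i)) := MorphismProperty.pullback_snd _ _ ‹Smooth H.hom›
    haveI : Smooth (pullback.snd H.hom (f j)) := MorphismProperty.pullback_snd _ _ ‹Smooth H.hom›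
    let qi := (U i).fromSpecResidueField (genericPoint (U i))
    let qj := (U j).fromSpecResidueField (genericPoint (U j))
    haveI : Flat qi := flat_fromSpecResidueField_genericPoint (U i)
    let d₁ := pullback.fst (a ≫ pullback.snd H.hom (f i)) qi
    haveI : Flat d₁ := MorphismProperty.pullback_fst _ _ ‹Flat qi›
    let d₂ := pullback.fst (d₁ ≫ b ≫ pullback.snd H.hom (f j)) qj
    haveI : IsDominant d₁ := isDominant_generic _
    haveI : IsDominant d₂ := isDominant_generic _
    refine ext_of_isDominant_of_isSeparated T.hom ?_ (d₂ ≫ d₁) ?_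
    · rw [Category.assoc, Category.assoc, hm, hm, pullback.condition_assoc]
    · have hwi : (d₂ ≫ d₁ ≫ a) ≫ pullback.snd H.hom (f i) =
          (d₂ ≫ pullback.snd (a ≫ pullback.snd H.hom (f i)) qi) ≫ qi := by
        simp only [Category.assoc, d₁]
        rw [pullback.condition]
      have hwj : (d₂ ≫ d₁ ≫ b) ≫ pullback.snd H.hom (f j) =
          pullback.snd (d₁ ≫ b ≫ pullback.snd H.hom (f j)) qj ≫ qj := by
        simp only [Category.assoc]
        exact pullback.condition
      have ei := hag i (d₂ ≫ d₁ ≫ a) _ hwi
      have ej := hag j (d₂ ≫ d₁ ≫ b) _ hwj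
      simp only [Category.assoc] at ei ej ⊢
      rw [ei, ej]
      congr 1
      apply pullback.hom_ext
      · simp only [pullback.lift_fst, a, b, Category.assoc]
        rw [pullback.condition]
      · simp only [pullback.lift_snd]
        rw [← cancel_mono q]
        simp only [Category.assoc]
        rw [hc i, hc j]
        have hwi' := congrArg (· ≫ f i) hwi
        have hwj' := congrArg (· ≫ f j) hwj
        simp only [Category.assoc] at hwi' hwj'
        rw [← hwi', ← hwj', ← pullback.condition, ← pullback.condition]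
        simp only [a, b]
        rw [pullback.condition_assoc]
  have hdesc : ∀ {Z : Scheme.{u}} (g₁ g₂ : Z ⟶ ∐ P), g₁ ≫ r = g₂ ≫ r → g₁ ≫ m' = g₂ ≫ m' := by
    intro Z g₁ g₂ hg
    refine Scheme.Cover.hom_ext ((sigmaOpenCover P).pullback₁ g₁) _ _ fun i => ?_
    let p₁ := pullback.fst g₁ ((sigmaOpenCover P).f i)
    refine Scheme.Cover.hom_ext ((sigmaOpenCover P).pullback₁ (p₁ ≫ g₂)) _ _ fun j => ?_
    let d := pullback.fst (p₁ ≫ g₂) ((sigmaOpenCover P).f j)
    let x : _ ⟶ P i := d ≫ pullback.snd g₁ ((sigmaOpenCover P).f i)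
    let y : _ ⟶ P j := pullback.snd (p₁ ≫ g₂) ((sigmaOpenCover P).f j)
    have hx : d ≫ p₁ ≫ g₁ = x ≫ Sigma.ι P i := by
      simp only [x, p₁, Category.assoc]
      exact congrArg (d ≫ ·) pullback.condition
    have hy : d ≫ p₁ ≫ g₂ = y ≫ Sigma.ι P j := pullback.condition
    have hxy : x ≫ pullback.fst H.hom (f i) = y ≫ pullback.fst H.hom (f j) := by
      have h := congrArg (d ≫ p₁ ≫ ·) hg
      rw [reassoc_of% hx, reassoc_of% hy, Sigma.ι_desc, Sigma.ι_desc] at h
      exact h
    show d ≫ p₁ ≫ g₁ ≫ m' = d ≫ p₁ ≫ g₂ ≫ m'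
    rw [reassoc_of% hx, reassoc_of% hy, Sigma.ι_desc, Sigma.ι_desc]
    have := congrArg (pullback.lift x y hxy ≫ ·) (key i j)
    simpa only [pullback.lift_fst_assoc, pullback.lift_snd_assoc] using this
  let v : H.left ⟶ T.left := EffectiveEpi.desc r m' fun g₁ g₂ h => hdesc g₁ g₂ h
  have hv : r ≫ v = m' := EffectiveEpi.fac r m' _
  have hvS : v ≫ T.hom = H.hom := by
    rw [← cancel_epi r, reassoc_of% hv]
    refine Sigma.hom_ext _ _ fun s => ?_
    simp only [m', r, Sigma.ι_desc_assoc, hm]
  let u : H ⟶ T := Over.homMk v hvS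
  have hgen : (Over.pullback q).map u = uη := by
    refine Over.OverMorphism.ext (pullback.hom_ext ?_ ((Over.w _).trans (Over.w uη).symm))
    rw [ActBC.pullback_map_left_fst q u]
    haveI : EffectiveEpi (pullback.fst (ι₀ H) r) := Descent.effectiveEpi_pullback_fst (ι₀ H) r hcov
    rw [← cancel_epi (pullback.fst (ι₀ H) r)]
    refine Scheme.Cover.hom_ext ((sigmaOpenCover P).pullback₁ (pullback.snd (ι₀ H) r)) _ _ fun i => ?_
    haveI := hU i
    let Z := pullback (ι₀ H) (pullback.fst H.hom (f i))
    have hZ : pullback.fst (ι₀ H) (pullback.fst H.hom (f i)) ≫ ι₀ H ≫ v =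
        pullback.fst (ι₀ H) (pullback.fst H.hom (f i)) ≫ uη.left ≫ pullback.fst T.hom q := by
      haveI : Smooth (Hη H).hom := MorphismProperty.pullback_snd _ _ ‹Smooth H.hom›
      haveI : IsReduced Z := isReduced_of_normal (isNormalScheme_of_smooth
        (pullback.fst (ι₀ H) (pullback.fst H.hom (f i)) ≫ (Hη H).hom) (isNormalScheme_field _))
      haveI : Smooth (pullback.snd H.hom (f i)) := MorphismProperty.pullback_snd _ _ ‹Smooth H.hom›
      haveI : Flat q := flat_fromSpecResidueField_genericPoint S
      haveI : Flat (ι₀ H) := MorphismProperty.pullback_fst _ _ ‹Flat q›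
      let qi := (U i).fromSpecResidueField (genericPoint (U i))
      let a : Z ⟶ P i := pullback.snd _ _
      let d := pullback.fst (a ≫ pullback.snd H.hom (f i)) qi
      haveI : Flat a := MorphismProperty.pullback_snd _ _ ‹Flat (ι₀ H)›
      haveI : IsDominant d := isDominant_generic _
      refine ext_of_isDominant_of_isSeparated T.hom ?_ d ?_
      · simp only [Category.assoc, hvS]
        rw [pullback.condition (f := T.hom), show pullback.snd T.hom q = (Red.bc q T).hom from rfl,
          reassoc_of% (Over.w uη)]
        exact congrArg (pullback.fst (ι₀ H) _ ≫ ·) pullback.condition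
      · have hw : (d ≫ a) ≫ pullback.snd H.hom (f i) = pullback.snd (a ≫ pullback.snd H.hom (f i)) qi ≫ qi := by
          rw [Category.assoc]; exact pullback.condition
        have ea := hag i (d ≫ a) _ hw
        have hmi : pullback.fst H.hom (f i) ≫ v = m i := by
          have := congrArg (Sigma.ι P i ≫ ·) hv
          simpa [r, m'] using this
        rw [reassoc_of% (pullback.condition (f := ι₀ H) (g := pullback.fst H.hom (f i))), hmi,
          ← Category.assoc, ea]
        simp only [← Category.assoc]
        congr 2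
        apply pullback.hom_ext
        · simp only [pullback.lift_fst, Category.assoc, a]
          exact congrArg (d ≫ ·) pullback.condition.symm
        · simp only [pullback.lift_snd]
          rw [← cancel_mono q]
          simp only [Category.assoc]
          rw [hc i, ← pullback.condition (f := H.hom) (g := q)]
          have hw' := congrArg (· ≫ f i) hw
          simp only [Category.assoc] at hw'
          rw [← hw', ← pullback.condition]
          simp only [a]
          rw [pullback.condition_assoc]
    let d := pullback.fst (pullback.snd (ι₀ H) r) ((sigmaOpenCover P).f i)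
    let y : _ ⟶ P i := pullback.snd (pullback.snd (ι₀ H) r) ((sigmaOpenCover P).f i)
    have hxy : (d ≫ pullback.fst (ι₀ H) r) ≫ ι₀ H = y ≫ pullback.fst H.hom (f i) := by
      have h : d ≫ pullback.snd (ι₀ H) r = y ≫ Sigma.ι P i := pullback.condition
      rw [Category.assoc, pullback.condition, reassoc_of% h, Sigma.ι_desc]
    have := congrArg (pullback.lift (d ≫ pullback.fst (ι₀ H) r) y hxy ≫ ·) hZ
    show d ≫ pullback.fst (ι₀ H) r ≫ ι₀ H ≫ v = d ≫ pullback.fst (ι₀ H) r ≫ uη.left ≫ pullback.fst T.hom q
    simpa only [pullback.lift_fst_assoc, Category.assoc] using this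
  refine ⟨u, Bridge.isMonHom_of_mul u fun Y a b => ?_, hgen⟩
  haveI : Smooth (H ⊗ H).hom :=
    inferInstanceAs (Smooth (pullback.fst H.hom H.hom ≫ H.hom))
  haveI : IsReduced (H ⊗ H).left := isReduced_of_normal (isNormalScheme_of_smooth (H ⊗ H).hom hS)
  have h2 : (fst H H * snd H H) ≫ u = (fst H H ≫ u) * (snd H H ≫ u) := by
    refine eq_of_generic _ _ ?_
    have hmul : ∀ {A B : Over S} [GrpObj B] (x y : A ⟶ B),
        (Over.pullback q).map (x * y) = (Over.pullback q).map x * (Over.pullback q).map y :=
      fun x y => map_mul ((Over.pullback q).homMonoidHom) x y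
    rw [hmul, Functor.map_comp, hmul, Functor.map_comp, Functor.map_comp, hgen, MonObj.mul_comp]
  have := congrArg (lift a b ≫ ·) h2
  rw [← Category.assoc, MonObj.comp_mul, lift_fst, lift_snd, MonObj.comp_mul, ← Category.assoc,
    ← Category.assoc, lift_fst, lift_snd] at this
  exact this

end Groth.L25.Extend
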