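import Groth.Agent.L25.Extend.Units
import Groth.Agent.L25.NilAction
import Groth.Agent.L25.MonoFibres
import Mathlib.AlgebraicGeometry.Morphisms.Flat
import Mathlib.RingTheory.Flat.FaithfullyFlat.Algebra

/-!
# Global units from units on the generic fibre
-/

set_option autoImplicit false
universe u

open CategoryTheory CategoryTheory.Limits MonoidalCategory CartesianMonoidalCategory AlgebraicGeometry
open TopologicalSpace Groth.L15.CDivLib
open scoped MonObj

set_option linter.style.haveILetI false
set_option backward.isDefEq.respectTransparency.types false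

noncomputable section

namespace Groth.L25.Extend

theorem flat_fromSpecStalk {X : Scheme.{u}} (x : X) : Flat (X.fromSpecStalk x) := by
  obtain ⟨_, ⟨(W : X.Opens), hW, rfl⟩, hxW, -⟩ :=
    X.isBasis_affineOpens.exists_subset_of_mem_open (Set.mem_univ x) isOpen_univ
  have hW' : IsAffineOpen W := hW
  rw [← hW'.fromSpecStalk_eq_fromSpecStalk hxW]
  letI := X.presheaf.algebra_section_stalk ⟨x, hxW⟩
  have := hW'.isLocalization_stalk ⟨x, hxW⟩
  have : Flat (Spec.map (X.presheaf.germ W x hxW)) :=
    (HasRingHomProperty.Spec_iff (P := @Flat)).2 (RingHom.flat_algebraMap_iff.2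
      (IsLocalization.flat _ (hW'.primeIdealOf ⟨x, hxW⟩).asIdeal.primeCompl))
  exact inferInstanceAs (Flat (Spec.map _ ≫ hW'.fromSpec))

theorem flat_fromSpecResidueField_genericPoint (S : Scheme.{u}) [IsIntegral S] :
    Flat (S.fromSpecResidueField (genericPoint S)) := by
  haveI : IsIso (S.residue (genericPoint S)) := by
    refine (ConcreteCategory.isIso_iff_bijective _).2 ⟨?_, S.residue_surjective _⟩
    letI : Field (S.presheaf.stalk (genericPoint S)) := inferInstanceAs (Field S.functionField)
    exact RingHom.injective (S.residue (genericPoint S)).hom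
  haveI := flat_fromSpecStalk (genericPoint S)
  exact inferInstanceAs (Flat (Spec.map (S.residue (genericPoint S)) ≫ S.fromSpecStalk (genericPoint S)))

theorem stalkMap_injective_of_flat {X Y : Scheme.{u}} (f : X ⟶ Y) [Flat f] (x : X) :
    Function.Injective (f.stalkMap x) := by
  letI := (f.stalkMap x).hom.toAlgebra
  haveI : Module.Flat (Y.presheaf.stalk (f x)) (X.presheaf.stalk x) := Flat.stalkMap f x
  haveI : IsLocalHom (algebraMap (Y.presheaf.stalk (f x)) (X.presheaf.stalk x)) :=
    inferInstanceAs (IsLocalHom (f.stalkMap x).hom)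
  haveI := Module.FaithfullyFlat.of_flat_of_isLocalHom
    (A := Y.presheaf.stalk (f x)) (B := X.presheaf.stalk x)
  exact FaithfulSMul.algebraMap_injective (Y.presheaf.stalk (f x)) (X.presheaf.stalk x)

variable {S : Scheme.{u}} [IsIntegral S] [IsLocallyNoetherian S] (H : Over S) [GrpObj H] [Smooth H.hom]
  (hconn : ∀ s : S, ConnectedSpace ↥(Limits.pullback H.hom (S.fromSpecResidueField s)))
  (hS : Pi1.IsNormalScheme S)

/-- The generic fibre. -/
abbrev Hη : Over (Spec (S.residueField (genericPoint S))) :=
  Red.bc (S.fromSpecResidueField (genericPoint S)) H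

/-- The inclusion of the generic fibre. -/
abbrev ι₀ : (Hη H).left ⟶ H.left := pullback.fst H.hom (S.fromSpecResidueField (genericPoint S))

include hconn hS in
/-- Units of the generic fibre which are one at the unit section come from global units. -/
theorem exists_global_unit (f : Γ((Hη H).left, ⊤)) (hf : IsUnit f)
    (hf1 : (η[Hη H]).left.appTop f = 1) :
    ∃ F : Γ(H.left, ⊤), IsUnit F ∧ (ι₀ H).appTop F = f := by
  haveI := isIntegral_total H hconn hS
  haveI : IsLocallyNoetherian H.left := LocallyOfFiniteType.isLocallyNoetherian H.hom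
  let q := S.fromSpecResidueField (genericPoint S)
  haveI : Flat q := flat_fromSpecResidueField_genericPoint S
  haveI : Flat (ι₀ H) := MorphismProperty.pullback_fst _ _ ‹Flat q›
  haveI : IsPreimmersion (ι₀ H) := MorphismProperty.pullback_fst _ _ inferInstance
  have hbij : ∀ z, Function.Bijective ((ι₀ H).stalkMap z) := fun z =>
    ⟨stalkMap_injective_of_flat _ z, (ι₀ H).stalkMap_surjective z⟩
  have hrange : ∀ x : H.left, H.hom x = genericPoint S → ∃ z, ι₀ H z = x := fun x hx => by
    have : x ∈ Set.range (ι₀ H) := by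
      rw [Scheme.Pullback.range_fst, Set.mem_preimage, Scheme.range_fromSpecResidueField]
      exact hx
    exact this
  have hover : ∀ z, H.hom (ι₀ H z) = genericPoint S := fun z => by
    rw [← Scheme.Hom.comp_apply, pullback.condition, Scheme.Hom.comp_apply, Scheme.fromSpecResidueField_apply]
  choose a ha using fun z => (hbij z).2 ((Hη H).left.presheaf.germ ⊤ z trivial f)
  have haunit : ∀ z, IsUnit (a z) := fun z => by
    refine isUnit_of_map_unit ((ι₀ H).stalkMap z).hom _ ?_
    rw [ha]
    exact hf.map _
  obtain ⟨ξ, hξ, hgen⟩ := exists_fibre_generic H hconn (genericPoint S)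
  obtain ⟨z₁, rfl⟩ := hrange ξ hξ
  let k : CDiv.KUnits H.left := (haunit z₁).map (am (ι₀ H z₁)) |>.unit
  have ham : ∀ z, am (ι₀ H z) (a z) = (k : H.left.functionField) := by
    intro z
    have hz : z₁ ⤳ z := (ι₀ H).isEmbedding.isInducing.specializes_iff.1 (hgen _ (hover z))
    have e : H.left.presheaf.stalkSpecializes (hz.map (ι₀ H).continuous) (a z) = a z₁ := by
      refine (hbij z₁).1 ?_
      rw [Scheme.Hom.stalkSpecializes_stalkMap_apply (ι₀ H) _ _ hz, ha, ha]
      exact TopCat.Presheaf.germ_stalkSpecializes_apply _ _ _ f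
    rw [← am_specializes (hz.map (ι₀ H).continuous), e]
    rfl
  have hk : ∀ x : H.left, H.hom x = genericPoint S → CDiv.germOf H.left x k = 1 := by
    intro x hx
    obtain ⟨z, rfl⟩ := hrange x hx
    exact germOf_eq_one_iff.2 ⟨a z, haunit z, ham z⟩
  let e : S ⟶ H.left := η[H].left
  have he : e ≫ H.hom = 𝟙 S := Over.w η[H]
  let eη : Spec (S.residueField (genericPoint S)) ⟶ (Hη H).left := η[Hη H].left
  have hsq : eη ≫ ι₀ H = q ≫ e := by
    have h0 : NilAction.toBase q (1 : Over.mk (𝟙 _) ⟶ Hη H) = 1 := NilAction.toBase_one q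
    have h1 := congrArg (fun φ : _ ⟶ H => φ.left) h0
    simp only [NilAction.toBase, Over.homMk_left, MonoFibres.one_left, Over.mk_hom] at h1
    refine Eq.trans ?_ (h1.trans ?_)
    · exact (congrArg (· ≫ pullback.fst H.hom q) (Category.id_comp eη)).symm
    · exact congrArg (· ≫ e) (Category.id_comp q)
  let c := IsLocalRing.closedPoint (S.residueField (genericPoint S))
  have hqc : q c = genericPoint S := Scheme.fromSpecResidueField_apply _ _
  have he1 : ∀ b : H.left.presheaf.stalk (e (genericPoint S)), am _ b = (k : H.left.functionField) →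
      e.stalkMap (genericPoint S) b = 1 := by
    suffices h : ∀ p : S, q c = p → ∀ b : H.left.presheaf.stalk (e p),
        am _ b = (k : H.left.functionField) → e.stalkMap p b = 1 from h _ hqc
    rintro p rfl b hb
    refine stalkMap_injective_of_flat q c ?_
    rw [map_one]
    have hpt : ι₀ H (eη c) = e (q c) := congrArg (fun φ : _ ⟶ H.left => φ c) hsq
    have gen : ∀ (φ : Spec (S.residueField (genericPoint S)) ⟶ H.left) (_ : φ = eη ≫ ι₀ H)
        (b : H.left.presheaf.stalk (φ c)), am _ b = (k : H.left.functionField) → φ.stalkMap c b = 1 := by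
      rintro φ rfl b hb
      rw [Scheme.Hom.stalkMap_comp]
      have hba : b = a (eη c) := am_injective _ (hb.trans (ham (eη c)).symm)
      show eη.stalkMap c ((ι₀ H).stalkMap (eη c) b) = 1
      rw [hba, ha]
      rw [Scheme.Hom.germ_stalkMap_apply eη ⊤ c trivial f]
      show (Spec (S.residueField (genericPoint S))).presheaf.germ ⊤ c trivial (η[Hη H].left.appTop f) = 1
      rw [hf1, map_one]
    have h := gen (q ≫ e) hsq.symm b hb
    rw [Scheme.Hom.stalkMap_comp] at h
    exact h
  have hone := germOf_eq_one H hconn hS e he k hk he1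
  choose A hAu hA using fun x => germOf_eq_one_iff.1 (hone x)
  choose V hxV t ht using fun x => TopCat.Presheaf.exists_germ_eq H.left.presheaf (A x)
  have htk : ∀ x y (hy : y ∈ V x), am y (H.left.presheaf.germ (V x) y hy (t x)) = (k : H.left.functionField) :=
    fun x y hy => by rw [am_germ hy (hxV x), ht, hA]
  obtain ⟨F, hF, -⟩ := H.left.sheaf.existsUnique_gluing' V ⊤ (fun x => homOfLE le_top)
    (fun x _ => Opens.mem_iSup.2 ⟨x, hxV x⟩) t (fun x y => by
      refine TopCat.Presheaf.section_ext H.left.sheaf _ _ _ fun z hz => ?_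
      change H.left.presheaf.germ _ z hz (H.left.presheaf.map _ (t x)) =
        H.left.presheaf.germ _ z hz (H.left.presheaf.map _ (t y))
      rw [TopCat.Presheaf.germ_res_apply, TopCat.Presheaf.germ_res_apply]
      exact am_injective z ((htk x z hz.1).trans (htk y z hz.2).symm))
  have hFk : ∀ x, am x (H.left.presheaf.germ ⊤ x trivial F) = (k : H.left.functionField) := fun x => by
    rw [← htk x x (hxV x), ← hF x]
    congr 1
    exact (TopCat.Presheaf.germ_res_apply H.left.presheaf _ x (hxV x) F).symm
  refine ⟨F, ?_, ?_⟩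
  · refine AlgebraicGeometry.RingedSpace.isUnit_of_isUnit_germ H.left.toLocallyRingedSpace.toSheafedSpace ⊤ F fun x _ => ?_
    have : H.left.presheaf.germ ⊤ x trivial F = A x := am_injective x ((hFk x).trans (hA x).symm)
    show IsUnit (H.left.presheaf.germ ⊤ x trivial F)
    rw [this]
    exact hAu x
  · refine TopCat.Presheaf.section_ext (Hη H).left.sheaf ⊤ _ _ fun z hz => ?_
    change (Hη H).left.presheaf.germ ⊤ z trivial ((ι₀ H).appTop F) = (Hη H).left.presheaf.germ ⊤ z trivial f
    rw [← ha z, ← am_injective _ ((hFk (ι₀ H z)).trans (ham z).symm)]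
    exact (Scheme.Hom.germ_stalkMap_apply (ι₀ H) ⊤ z trivial F).symm

end Groth.L25.Extend
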