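import Groth.Agent.L25.Extend.Main
import Groth.Agent.L24.Retract.Torus
import Mathlib.Algebra.Polynomial.Laurent
import Mathlib.RingTheory.Smooth.Basic
import Mathlib.AlgebraicGeometry.Morphisms.Smooth

/-!
# The multiplicative group is smooth with connected fibres
-/

set_option autoImplicit false
universe u

open CategoryTheory CategoryTheory.Limits AlgebraicGeometry

set_option linter.style.haveILetI false
set_option backward.isDefEq.respectTransparency.types false

noncomputable section

namespace Groth.L25.Extend

theorem smooth_laurent (R : Type u) [CommRing R] : Algebra.Smooth R (MonoidAlgebra R (Multiplicative ℤ)) := by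
  haveI : IsScalarTower R (Polynomial R) (LaurentPolynomial R) :=
    IsScalarTower.of_algebraMap_eq fun x => (Polynomial.toLaurent_C x).symm
  haveI : Algebra.Smooth R (MvPolynomial PUnit.{1} R) := ⟨inferInstance, inferInstance⟩
  haveI : Algebra.Smooth R (Polynomial R) := Algebra.Smooth.of_equiv (MvPolynomial.uniqueAlgEquiv R PUnit.{1})
  haveI : Algebra.Smooth (Polynomial R) (LaurentPolynomial R) :=
    Algebra.Smooth.of_isLocalization_Away (Polynomial.X : Polynomial R)
  haveI : Algebra.Smooth R (LaurentPolynomial R) := Algebra.Smooth.comp R (Polynomial R) (LaurentPolynomial R)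
  exact Algebra.Smooth.of_equiv (AddMonoidAlgebra.toMultiplicativeAlgEquiv R R ℤ)

theorem smooth_gm (S : Scheme.{u}) : Smooth (Red.Gm S).hom := by
  let R := ULift.{u} ℤ
  haveI : Smooth (Red.diag R ℤ).hom :=
    (HasRingHomProperty.Spec_iff (P := @Smooth)).2 (RingHom.smooth_algebraMap.2 (smooth_laurent R))
  exact MorphismProperty.pullback_snd _ _ ‹Smooth (Red.diag R ℤ).hom›

theorem connectedSpace_gm_fibre (S : Scheme.{u}) (s : S) :
    ConnectedSpace ↥(pullback (Red.Gm S).hom (S.fromSpecResidueField s)) := by
  let K : Type u := S.residueField s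
  let q : Spec (CommRingCat.of K) ⟶ S := S.fromSpecResidueField s
  let t := Limits.IsTerminal.from specULiftZIsTerminal S
  have sqD : IsPullback (pullback.fst (Red.diag (ULift.{u} ℤ) ℤ).hom t) (Red.Gm S).hom
      (Red.diag (ULift.{u} ℤ) ℤ).hom t := IsPullback.of_hasPullback _ _
  have sq2 := (IsPullback.of_hasPullback (Red.Gm S).hom q).paste_horiz sqD
  letI : Algebra (ULift.{u} ℤ) K := ((Int.castRingHom K).comp ULift.ringEquiv.toRingHom).toAlgebra
  rw [show q ≫ t = Spec.map (CommRingCat.ofHom (algebraMap (ULift.{u} ℤ) K)) from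
    specULiftZIsTerminal.hom_ext _ _] at sq2
  obtain ⟨e₂, -⟩ := Groth.L24.Retract.exists_iso_of_isPullback_diag (ULift.{u} ℤ) K ℤ sq2
  haveI : IsDomain (MonoidAlgebra K (Multiplicative ℤ)) := NoZeroDivisors.to_isDomain _
  haveI : ConnectedSpace ↥(Spec (CommRingCat.of (MonoidAlgebra K (Multiplicative ℤ)))) :=
    inferInstanceAs (ConnectedSpace (PrimeSpectrum (MonoidAlgebra K (Multiplicative ℤ))))
  exact Function.Surjective.connectedSpace (Scheme.homeoOfIso e₂).symm.surjective
    (Scheme.homeoOfIso e₂).symm.continuous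

end Groth.L25.Extend
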