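import Groth.Agent.L25.Extend.GenericFibre
import Groth.Agent.L25.DSPts
import Mathlib.AlgebraicGeometry.Morphisms.Separated

/-!
# Extending homomorphisms into split groups from the generic fibre
-/

set_option autoImplicit false
universe u

open CategoryTheory CategoryTheory.Limits MonoidalCategory CartesianMonoidalCategory AlgebraicGeometry
open TopologicalSpace Groth.L15.CDivLib
open scoped MonObj

set_option linter.style.haveILetI false
set_option backward.isDefEq.respectTransparency.types false

noncomputable section

namespace Groth.L25.Extend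

variable {S : Scheme.{u}} [IsIntegral S]

/-- The generic fibre of a flat morphism is dense. -/
theorem isDominant_generic {X : Scheme.{u}} (g : X ⟶ S) [Flat g] :
    IsDominant (pullback.fst g (S.fromSpecResidueField (genericPoint S))) := by
  refine ⟨fun x => ?_⟩
  obtain ⟨y, hy, hyη⟩ := Flat.generalizingMap g ((genericPoint_spec S).specializes (Set.mem_univ (g x)))
  refine hy.mem_closed isClosed_closure (subset_closure ?_)
  rw [Scheme.Pullback.range_fst, Scheme.range_fromSpecResidueField]
  exact hyη

/-- Morphisms into separated schemes agreeing on the generic fibre are equal. -/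
theorem eq_of_generic {Z T : Over S} [Flat Z.hom] [IsReduced Z.left] [IsSeparated T.hom] (a b : Z ⟶ T)
    (h : (Over.pullback (S.fromSpecResidueField (genericPoint S))).map a =
      (Over.pullback (S.fromSpecResidueField (genericPoint S))).map b) : a = b := by
  refine Over.OverMorphism.ext ?_
  haveI := isDominant_generic Z.hom
  refine ext_of_isDominant_of_isSeparated T.hom ((Over.w a).trans (Over.w b).symm)
    (pullback.fst Z.hom (S.fromSpecResidueField (genericPoint S))) ?_
  have e := congrArg (fun φ : _ ⟶ Red.bc (S.fromSpecResidueField (genericPoint S)) T =>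
    φ.left ≫ pullback.fst T.hom (S.fromSpecResidueField (genericPoint S))) h
  simp only [Over.pullback_map_left] at e
  erw [pullback.lift_fst, pullback.lift_fst] at e
  exact e

variable [IsLocallyNoetherian S] {H T : Over S} [GrpObj H] [GrpObj T] [Smooth H.hom]
  (hconn : ∀ s : S, ConnectedSpace ↥(Limits.pullback H.hom (S.fromSpecResidueField s)))
  (hS : Pi1.IsNormalScheme S)
include hconn hS

/-- Functions on the total space are determined on the generic fibre. -/
theorem appTop_injective : Function.Injective (ι₀ H).appTop := by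
  haveI := isIntegral_total H hconn hS
  haveI := isDominant_generic H.hom
  intro F F' hFF
  obtain ⟨ξ, hξ, -⟩ := exists_fibre_generic H hconn (genericPoint S)
  obtain ⟨z, rfl⟩ : ξ ∈ Set.range (ι₀ H) := by
    rw [Scheme.Pullback.range_fst, Set.mem_preimage, Scheme.range_fromSpecResidueField]
    exact hξ
  haveI : Flat (S.fromSpecResidueField (genericPoint S)) := flat_fromSpecResidueField_genericPoint S
  haveI : Flat (ι₀ H) := MorphismProperty.pullback_fst _ _ inferInstance
  have hz : H.left.presheaf.germ ⊤ (ι₀ H z) trivial F = H.left.presheaf.germ ⊤ (ι₀ H z) trivial F' := by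
    refine stalkMap_injective_of_flat (ι₀ H) z ?_
    rw [Scheme.Hom.germ_stalkMap_apply, Scheme.Hom.germ_stalkMap_apply]
    exact congrArg _ hFF
  refine TopCat.Presheaf.section_ext H.left.sheaf ⊤ _ _ fun x hx => am_injective x ?_
  change am x (H.left.presheaf.germ ⊤ x hx F) = am x (H.left.presheaf.germ ⊤ x hx F')
  rw [am_germ hx (show ι₀ H z ∈ (⊤ : H.left.Opens) from trivial), hz, ← am_germ]

/-- A homomorphism on the generic fibre into a split group extends. -/
theorem exists_extension_split {M : Type} [AddCommGroup M] (e : Grp.mk T ≅ Grp.mk (Red.DS S M))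
    (uη : Hη H ⟶ Red.bc (S.fromSpecResidueField (genericPoint S)) T) [IsMonHom uη] :
    ∃ u : H ⟶ T, (Over.pullback (S.fromSpecResidueField (genericPoint S))).map u = uη := by
  let q := S.fromSpecResidueField (genericPoint S)
  let φ : T ⟶ Red.DS S M := e.hom.hom.hom
  let φ' : Red.DS S M ⟶ T := e.inv.hom.hom
  have hφm : IsMonHom φ := e.hom.hom.isMonHom_hom
  have hφφ : φ ≫ φ' = 𝟙 T := congrArg (fun x => x.hom.hom) e.hom_inv_id
  let t : Over.mk ((Hη H).hom ≫ q) ⟶ Red.DS S M := NilAction.toBase q uη ≫ φ
  let χ := DSPts.char t
  have hunit : ∀ m, IsUnit (χ m) := fun m => (Group.isUnit m).map χ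
  have hone : ∀ m, (η[Hη H]).left.appTop (χ m) = 1 := by
    intro m
    let g : Over.mk (𝟙 (Spec (S.residueField (genericPoint S))) ≫ q) ⟶ Over.mk ((Hη H).hom ≫ q) :=
      Over.homMk η[Hη H].left (by
        show η[Hη H].left ≫ (Hη H).hom ≫ q = 𝟙 _ ≫ q
        rw [← Category.assoc]
        exact congrArg (· ≫ q) (Over.w η[Hη H]))
    have hg : g ≫ NilAction.toBase q uη = 1 := by
      rw [← NilAction.toBase_one q (G := T) (Y := 𝟙_ (Over (Spec (S.residueField (genericPoint S)))))]
      refine Over.OverMorphism.ext ?_
      have h1 : (η[Hη H] ≫ uη).left = (1 : 𝟙_ _ ⟶ Red.bc q T).left := by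
        rw [IsMonHom.one_hom uη, Hom.one_def, toUnit_unique (toUnit _) (𝟙 _), Category.id_comp]
      simp only [g, NilAction.toBase, Over.comp_left, Over.homMk_left]
      rw [← Category.assoc]
      exact congrArg (· ≫ pullback.fst T.hom q) h1
    have h2 := DSPts.char_comp g t m
    rw [show g ≫ t = 1 by rw [← Category.assoc, hg, @MonObj.one_comp _ _ _ _ _ _ _ _ φ hφm], DSPts.char_one] at h2
    exact h2.symm
  choose F hFu hF using fun m => exists_global_unit H hconn hS (χ m) (hunit m) (hone m)
  have hinj := appTop_injective (H := H) hconn hS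
  let χ' : Multiplicative M →* Γ(H.left, ⊤) :=
    { toFun := F
      map_one' := hinj (by rw [hF, map_one, map_one])
      map_mul' := fun a b => hinj (by rw [hF, map_mul, map_mul, hF, hF]) }
  let u : H ⟶ T := DSPts.pt χ' ≫ φ'
  refine ⟨u, ?_⟩
  let j : Over.mk ((Hη H).hom ≫ q) ⟶ H := NilAction.toBase q (𝟙 (Hη H))
  have hj : NilAction.toBase q ((Over.pullback q).map u) = j ≫ u := by
    refine Over.OverMorphism.ext ?_
    simp only [j, NilAction.toBase, Over.homMk_left, Over.comp_left, Over.pullback_map_left]
    erw [pullback.lift_fst]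
    exact (congrArg (· ≫ u.left) (Category.id_comp _)).symm
  have ht : j ≫ DSPts.pt χ' = t := by
    refine DSPts.char_injective (MonoidHom.ext fun m => ?_)
    rw [DSPts.char_comp, DSPts.char_pt]
    have hjl : j.left = ι₀ H := Category.id_comp _
    rw [hjl]
    exact hF m
  have : NilAction.toBase q ((Over.pullback q).map u) = NilAction.toBase q uη := by
    rw [hj, ← Category.assoc, ht, Category.assoc, hφφ, Category.comp_id]
  have h2 := congrArg (NilAction.ofBase q) this
  rwa [NilAction.ofBase_toBase, NilAction.ofBase_toBase] at h2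

end Groth.L25.Extend
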