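import Groth.Agent.L25.Extend.Codim

/-!
# Rational functions which are units on the generic fibre and one at the unit section are units
-/

set_option autoImplicit false
universe u

open CategoryTheory CategoryTheory.Limits AlgebraicGeometry TopologicalSpace
open Groth.L15.CDivLib

set_option linter.style.haveILetI false
set_option backward.isDefEq.respectTransparency.types false

noncomputable section

namespace Groth.L25.Extend

/-- Orders of powers of rational functions. -/
theorem ord_units_zpow {X : Scheme.{u}} [IsIntegral X] [IsLocallyNoetherian X] {x : X}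
    (f : CDiv.KUnits X) (m : ℤ) :
    Scheme.ord ((f ^ m : CDiv.KUnits X) : X.functionField) x = m * Scheme.ord (f : X.functionField) x := by
  let φ : Additive (CDiv.KUnits X) →+ ℤ :=
    AddMonoidHom.mk' (fun a => Scheme.ord ((Additive.toMul a : CDiv.KUnits X) : X.functionField) x)
      fun a b => ord_units_mul (Additive.toMul a) (Additive.toMul b)
  have := φ.map_zsmul m (Additive.ofMul f)
  simpa [φ] using this

variable {S : Scheme.{u}} [IsIntegral S] [IsLocallyNoetherian S] (H : Over S) [GrpObj H] [Smooth H.hom]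
  (hconn : ∀ s : S, ConnectedSpace ↥(Limits.pullback H.hom (S.fromSpecResidueField s)))
  [IsIntegral H.left] [IsLocallyNoetherian H.left] (hS : Pi1.IsNormalScheme S)
  (e : S ⟶ H.left) (he : e ≫ H.hom = 𝟙 S) (k : CDiv.KUnits H.left)
  (hk : ∀ z : H.left, H.hom z = genericPoint S → CDiv.germOf H.left z k = 1)
  (he1 : ∀ a : H.left.presheaf.stalk (e (genericPoint S)), am _ a = (k : H.left.functionField) →
    e.stalkMap (genericPoint S) a = 1)
include hconn hS he hk he1

theorem ord_eq_zero_of_coheight_one {x : H.left} (hx : Order.coheight x = 1) :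
    Scheme.ord (k : H.left.functionField) x = 0 := by
  have hH := isNormalScheme_of_smooth H.hom hS
  haveI := isDVR_of_coheight hH hx
  by_cases hxs : H.hom x = genericPoint S
  · exact (germOf_eq_one_iff_ord hx k).1 (hk x hxs)
  obtain ⟨hgen, hdvr, hpts⟩ := vertical H hconn hS hx hxs
  haveI := (hS (H.hom x)).1
  haveI := hdvr
  -- a uniformiser of the base
  obtain ⟨ϖ, hϖ⟩ := IsDiscreteValuationRing.exists_irreducible (S.presheaf.stalk (H.hom x))
  obtain ⟨W, hsW, t, rfl⟩ := TopCat.Presheaf.exists_germ_eq S.presheaf ϖ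
  have hW : ∀ {p : S}, p ⤳ H.hom x → p ∈ W := fun h => h.mem_open W.2 hsW
  have hηW : genericPoint S ∈ W := hW ((genericPoint_spec S).specializes trivial)
  let tH : Γ(H.left, H.hom ⁻¹ᵁ W) := H.hom.app W t
  have hgermH : ∀ (z : H.left) (hz : H.hom z ∈ W),
      H.left.presheaf.germ (H.hom ⁻¹ᵁ W) z hz tH = H.hom.stalkMap z (S.presheaf.germ W (H.hom z) hz t) :=
    fun z hz => (Scheme.Hom.germ_stalkMap_apply H.hom W z hz t).symm
  let tη : S.functionField := S.presheaf.germ W (genericPoint S) hηW t
  have htη : tη ≠ 0 := by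
    have h1 : am (H.hom x) (S.presheaf.germ W (H.hom x) hsW t) = tη :=
      TopCat.Presheaf.germ_stalkSpecializes_apply _ hsW _ t
    rw [← h1]
    exact (map_ne_zero_iff _ (am_injective _)).2 hϖ.ne_zero
  have htunit : ∀ (z : H.left) (hz : H.hom z ∈ W), H.hom z = genericPoint S →
      IsUnit (H.left.presheaf.germ (H.hom ⁻¹ᵁ W) z hz tH) := by
    intro z hz hzη
    rw [hgermH]
    refine IsUnit.map _ ?_
    have key : ∀ (p : S) (hp : p ∈ W), p = genericPoint S → IsUnit (S.presheaf.germ W p hp t) := by
      rintro p hp rfl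
      exact isUnit_iff_ne_zero.2 htη
    exact key _ hz hzη
  have hξW : H.hom (genericPoint H.left) ∈ W := (hom_genericPoint H hconn).symm ▸ hηW
  let πK : CDiv.KUnits H.left :=
    (htunit (genericPoint H.left) hξW (hom_genericPoint H hconn)).unit
  have hπK : ∀ (z : H.left) (hz : H.hom z ∈ W),
      am z (H.left.presheaf.germ (H.hom ⁻¹ᵁ W) z hz tH) = (πK : H.left.functionField) := fun z hz =>
    TopCat.Presheaf.germ_stalkSpecializes_apply (U := H.hom ⁻¹ᵁ W) H.left.presheaf hz
      ((genericPoint_spec H.left).specializes trivial) tH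
  have hπgen : ∀ z : H.left, H.hom z ∈ W → H.hom z = genericPoint S → CDiv.germOf H.left z πK = 1 :=
    fun z hz hzη => germOf_eq_one_iff.2 ⟨_, htunit z hz hzη, hπK z hz⟩
  let m : ℤ := Scheme.ord (πK : H.left.functionField) x
  have hm : m ≠ 0 := by
    intro h0
    obtain ⟨a, ha, hae⟩ := germOf_eq_one_iff.1 ((germOf_eq_one_iff_ord hx πK).2 h0)
    rw [← hπK x hsW] at hae
    rw [am_injective x hae, hgermH x hsW] at ha
    exact hϖ.not_isUnit (isUnit_of_map_unit (H.hom.stalkMap x).hom _ ha)
  let n : ℤ := Scheme.ord (k : H.left.functionField) x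
  let g : CDiv.KUnits H.left := k ^ m / πK ^ n
  -- `g` is a unit along the unit section
  let z₀ := e (H.hom x)
  let zη := e (genericPoint S)
  have hhome : ∀ p : S, H.hom (e p) = p := fun p => by
    rw [← Scheme.Hom.comp_apply, he]; rfl
  have hg : CDiv.germOf H.left z₀ g = 1 := by
    have h1 := germOf_eq_of_ord hH z₀ g 1 fun z hz hzc => ?_
    · exact h1
    haveI := isDVR_of_coheight hH hzc
    rw [show Scheme.ord ((1 : CDiv.KUnits H.left) : H.left.functionField) z = 0 by
        have := ord_units_zpow (x := z) k 0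
        simpa using this,
      show g = k ^ m / πK ^ n from rfl, ord_units_div, ord_units_zpow, ord_units_zpow]
    have hzs : H.hom z ⤳ H.hom x := (hhome (H.hom x)) ▸ hz.map H.hom.continuous
    rcases hpts _ hzs with h | h
    · have hxz : x = z := (eq_or_eq_genericPoint hzc (hgen z h)).resolve_right fun he' =>
        hxs (he' ▸ hom_genericPoint H hconn)
      subst hxz
      show m * n - n * m = 0
      ring
    · rw [(germOf_eq_one_iff_ord hzc k).1 (hk z h), (germOf_eq_one_iff_ord hzc πK).1 (hπgen z (hW hzs) h)]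
      ring
  obtain ⟨a, ha, hag⟩ := germOf_eq_one_iff.1 hg
  -- evaluate along the unit section
  have hsp : genericPoint S ⤳ H.hom x := (genericPoint_spec S).specializes trivial
  have hzz : zη ⤳ z₀ := hsp.map e.continuous
  obtain ⟨a₀, ha₀, ha₀k⟩ := germOf_eq_one_iff.1 (hk zη (hhome _))
  have hzηW : H.hom zη ∈ W := (hhome _).symm ▸ hηW
  let u₀ : (H.left.presheaf.stalk zη)ˣ := ha₀.unit
  let uπ : (H.left.presheaf.stalk zη)ˣ := (htunit zη hzηW (hhome _)).unit
  let u' : (H.left.presheaf.stalk zη)ˣ := (ha.map (H.left.presheaf.stalkSpecializes hzz).hom).unit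
  have key : u₀ ^ m = u' * uπ ^ n := by
    refine Units.map_injective (f := (am zη).toMonoidHom) (am_injective zη) ?_
    rw [map_mul, map_zpow, map_zpow]
    have e1 : Units.map (am zη).toMonoidHom u₀ = k := Units.ext ha₀k
    have e2 : Units.map (am zη).toMonoidHom uπ = πK := Units.ext (hπK zη hzηW)
    have e3 : Units.map (am zη).toMonoidHom u' = g := Units.ext ((am_specializes hzz a).trans hag)
    rw [e1, e2, e3]
    exact (div_mul_cancel _ _).symm
  let Φ : H.left.presheaf.stalk zη →+* S.functionField := (e.stalkMap (genericPoint S)).hom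
  have hΦ0 : Units.map Φ.toMonoidHom u₀ = 1 := Units.ext (he1 a₀ ha₀k)
  have hΦπ : Φ (uπ : H.left.presheaf.stalk zη) = tη := by
    show e.stalkMap (genericPoint S) (H.left.presheaf.germ (H.hom ⁻¹ᵁ W) zη hzηW tH) = tη
    have gen : ∀ (f : S ⟶ S) (_ : f = 𝟙 S) (hf : f (genericPoint S) ∈ W),
        f.stalkMap (genericPoint S) (S.presheaf.germ W _ hf t) = tη := by
      rintro f rfl hf
      rw [Scheme.Hom.stalkMap_id]
      rfl
    rw [hgermH zη hzηW]
    have h2 := gen (e ≫ H.hom) he (show H.hom zη ∈ W from hzηW)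
    rw [Scheme.Hom.stalkMap_comp] at h2
    exact h2
  let v : S.presheaf.stalk (H.hom x) := e.stalkMap (H.hom x) a
  have hv : IsUnit v := ha.map (e.stalkMap (H.hom x)).hom
  have hΦ' : Φ (u' : H.left.presheaf.stalk zη) = am (H.hom x) v :=
    (Scheme.Hom.stalkSpecializes_stalkMap_apply e _ _ hsp a)
  let utη : S.functionFieldˣ := Units.mk0 tη htη
  have key2 := congrArg (Units.map Φ.toMonoidHom) key
  rw [map_zpow, hΦ0, one_zpow, map_mul, map_zpow,
    show Units.map Φ.toMonoidHom uπ = utη from Units.ext hΦπ,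
    show Units.map Φ.toMonoidHom u' = Units.map (am (H.hom x)).toMonoidHom hv.unit from Units.ext hΦ'] at key2
  have key3 : utη ^ n = Units.map (am (H.hom x)).toMonoidHom hv.unit⁻¹ := by
    rw [map_inv]
    exact (mul_eq_one_iff_inv_eq.1 key2.symm).symm
  have pow_unit : ∀ (j : ℕ) (w : (S.presheaf.stalk (H.hom x))ˣ),
      utη ^ j = Units.map (am (H.hom x)).toMonoidHom w → j = 0 := by
    intro j w hjw
    by_contra hj
    refine hϖ.not_isUnit ((isUnit_pow_iff hj).1 ⟨w, ?_⟩)
    refine am_injective (H.hom x) ?_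
    rw [map_pow, show am (H.hom x) (S.presheaf.germ W (H.hom x) hsW t) = tη from
      TopCat.Presheaf.germ_stalkSpecializes_apply _ hsW _ t]
    exact (congrArg Units.val hjw).symm.trans (by simp [utη])
  rcases Int.eq_nat_or_neg n with ⟨j, hj | hj⟩
  · rw [hj, zpow_natCast] at key3
    show n = 0
    rw [hj, pow_unit j _ key3]
    rfl
  · rw [hj, zpow_neg, zpow_natCast, inv_eq_iff_eq_inv, ← map_inv, inv_inv] at key3
    show n = 0
    rw [hj, pow_unit j _ key3]
    rfl

/-- The rational function is everywhere a unit. -/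
theorem germOf_eq_one (z : H.left) : CDiv.germOf H.left z k = 1 := by
  have hH := isNormalScheme_of_smooth H.hom hS
  refine germOf_eq_of_ord hH z k 1 fun y _ hy => ?_
  rw [ord_eq_zero_of_coheight_one H hconn hS e he k hk he1 hy, Units.val_one]
  have h1 := ord_units_mul (x := y) (1 : CDiv.KUnits H.left) 1
  rw [mul_one, Units.val_one] at h1
  omega

end Groth.L25.Extend
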